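import Cfsg.Agent.Lib.FGS.SmallExp
import Cfsg.Agent.Lib.SL2.Cases
import Cfsg.Agent.Lib.Core.PCore
import Cfsg.Agent.Lib.GL.Basic
import Cfsg.Agent.S0483
import Cfsg.Agent.S0201

/-! Simple groups with non-abelian Sylow 2-subgroups of order 8. -/

set_option autoImplicit false

namespace H65.XS
open Cfsg Subgroup

theorem d8_or_q8 {G : Type*} [Group G] [Finite G] (h8 : Nat.card G = 8) {a b : G} (hab : a * b ≠ b * a) :
    Nonempty (G ≃* DihedralGroup 4) ∨ Nonempty (G ≃* QuaternionGroup 2) := by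
  have : Fact (Nat.Prime 2) := ⟨Nat.prime_two⟩
  have hG : IsPGroup 2 G := IsPGroup.of_card (n := 3) h8
  have n8 : ∀ g : G, ¬ 8 ∣ orderOf g := fun g hg => by
    have := isCyclic_of_orderOf_eq_card g (Nat.dvd_antisymm (orderOf_dvd_natCard g) (h8 ▸ hg))
    exact hab (IsCyclic.commGroup.mul_comm a b)
  have o4 : ∀ g : G, g * g ≠ 1 → orderOf g = 4 := fun g hg => by
    obtain ⟨k, hk, e⟩ := (Nat.dvd_prime_pow Nat.prime_two (m := 3)).1 (h8 ▸ orderOf_dvd_natCard g)
    interval_cases k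
    · exact (hg (by rw [orderOf_eq_one_iff.1 e, one_mul])).elim
    · exact (hg (by rw [← sq, ← pow_one 2, ← e, pow_orderOf_eq_one])).elim
    · exact e
    · exact (n8 g (by rw [e]; rfl)).elim
  obtain ⟨r, hr⟩ : ∃ r : G, r * r ≠ 1 := by
    by_contra! h
    exact hab (by rw [eq_inv_of_mul_eq_one_left (h (a * b)), mul_inv_rev,
      ← eq_inv_of_mul_eq_one_left (h a), ← eq_inv_of_mul_eq_one_left (h b)])
  have ho := o4 r hr
  have inv : ∀ s ∈ zpowers r, s * s = 1 → s = 1 ∨ s = r * r := by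
    rintro _ ⟨k, rfl⟩ hs
    have : (4 : ℤ) ∣ k + k := by
      rw [← zpow_add, ← orderOf_dvd_iff_zpow_eq_one, ho] at hs; exact hs
    obtain ⟨j, hj | hj⟩ : ∃ j, k = 4 * j ∨ k = 4 * j + 2 := ⟨k / 4, by omega⟩
    all_goals simp only [hj, zpow_add, zpow_mul, show r ^ (4 : ℤ) = 1 by
      rw [← orderOf_dvd_iff_zpow_eq_one, ho]; rfl, one_zpow, one_mul, zpow_two, true_or, or_true]
  by_cases hu : ∀ s : G, orderOf s = 2 → s = r * r
  · exact Or.inr ((H79.cyclic_four_or_quaternion hG (fun x y hx hy => (hu x hx).trans (hu y hy).symm)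
      ⟨r, ho.symm.dvd⟩ n8).resolve_left fun h => by omega)
  push Not at hu
  obtain ⟨s, s2, hs⟩ := hu
  have ss : s * s = 1 := by rw [← sq, ← s2, pow_orderOf_eq_one]
  have hsR : s ∉ zpowers r := fun h => (inv s h ss).elim (fun e => by simp [e] at s2) hs
  have hi : (zpowers r).index = 2 := by
    have := (zpowers r).card_mul_index
    rw [Nat.card_zpowers, ho, h8] at this; omega
  refine Or.inl (ho ▸ H29.dihedral_of_inverted (fun e => hr (by rw [e, one_mul])) hsR ss ?_ (by rw [ho, h8]))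
  by_contra h
  have h4 : s * r * (s * r) * (s * r * (s * r)) = 1 := by
    rw [← pow_orderOf_eq_one (s * r), o4 _ h]; simp [pow_succ, mul_assoc]
  have e := (inv _ (mul_self_mem_of_index_two hi _) h4).resolve_left h
  have c : Commute s r := by
    have : s * r * s = r := mul_right_cancel (b := r) (by rw [← e]; group)
    show s * r = r * s
    rw [← mul_one (s * r), ← ss, ← mul_assoc, this]
  have k : ∀ g : G, ∃ i : ℤ, g = r ^ i ∨ g = s * r ^ i := fun g => by
    by_cases hg : g ∈ zpowers r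
    · obtain ⟨i, rfl⟩ := hg; exact ⟨i, Or.inl rfl⟩
    · obtain ⟨i, hi⟩ := (mul_mem_iff_of_index_two hi).2 (iff_of_false hsR hg)
      exact ⟨i, Or.inr (by rw [show r ^ i = s * g from hi, ← mul_assoc, ss, one_mul])⟩
  obtain ⟨i, rfl | rfl⟩ := k a <;> obtain ⟨j, rfl | rfl⟩ := k b <;> apply hab
  · exact (Commute.refl r).zpow_zpow i j
  · exact ((c.symm.zpow_left i).mul_right ((Commute.refl r).zpow_zpow i j))
  · exact ((c.zpow_right j).mul_left ((Commute.refl r).zpow_zpow i j))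
  · exact ((Commute.refl s).mul_right (c.zpow_right j)).mul_left
      ((c.symm.zpow_left i).mul_right ((Commute.refl r).zpow_zpow i j))

theorem mod_sixteen {q : ℕ} (hq : Odd q) (h1 : 16 ∣ q * (q - 1) * (q + 1))
    (h2 : ¬ 32 ∣ q * (q - 1) * (q + 1)) : q % 16 = 7 ∨ q % 16 = 9 := by
  rw [mul_assoc] at h1 h2
  have c : Nat.Coprime (2 ^ 4) q := Nat.Coprime.pow_left 4 (Nat.coprime_two_left.2 hq)
  have h3 : 16 ∣ (q - 1) * (q + 1) := c.dvd_of_dvd_mul_left h1
  have h4 : ¬ 32 ∣ (q - 1) * (q + 1) := fun h => h2 (h.mul_left q)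
  obtain ⟨k, rfl⟩ := hq
  rw [show (2 * k + 1 - 1) * (2 * k + 1 + 1) = 4 * (k * (k + 1)) by
    rw [Nat.add_sub_cancel]; ring] at h3 h4
  have h5 : k * (k + 1) % 8 = 4 := by omega
  rw [Nat.mul_mod, Nat.add_mod] at h5
  have : k % 8 < 8 := Nat.mod_lt _ (by norm_num)
  have : k % 8 = 3 ∨ k % 8 = 4 := by
    generalize k % 8 = j at *
    interval_cases j <;> simp_all
  omega

theorem sylow_eight {G : Type*} [Group G] [Finite G] [IsSimpleGroup G] (hG : ¬ IsMulCommutative G)
    (T : Sylow 2 G) (hT : Nat.card (T : Subgroup G) = 8) {a b : (T : Subgroup G)}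
    (hab : a * b ≠ b * a) : Nonempty (G ≃* alternatingGroup (Fin 7)) ∨
      ∃ (F : Type) (_ : Field F) (_ : Fintype F), (Fintype.card F % 16 = 7 ∨ Fintype.card F % 16 = 9) ∧
        Nonempty (G ≃* Matrix.ProjectiveSpecialLinearGroup (Fin 2) F) := by
  have : Fact (Nat.Prime 2) := ⟨Nat.prime_two⟩
  have h8 : 8 ∣ Nat.card G := hT ▸ (T : Subgroup G).card_subgroup_dvd_card
  have h16 : ¬ 16 ∣ Nat.card G := fun h => by
    have := T.pow_dvd_card_of_pow_dvd_card (n := 4) h
    rw [hT] at this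
    norm_num at this
  have hO : ∀ N : Subgroup G, N.Normal → Odd (Nat.card N) → N = ⊥ := fun N hN ho =>
    hN.eq_bot_or_eq_top.resolve_right fun e => by
      rw [e, Subgroup.card_top, Nat.odd_iff] at ho
      omega
  rcases d8_or_q8 hT hab with hD | ⟨⟨e⟩⟩
  · have hp : commutator G = ⊤ := (Subgroup.Normal.eq_bot_or_eq_top inferInstance).resolve_left
      fun e => hG ((commutator_eq_bot_iff G).1 e)
    have : Group.IsPerfect G := ⟨hp⟩
    have e0 : G ≃* G ⧸ oddCore G := ((QuotientGroup.quotientMulEquivOfEq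
      (hO _ inferInstance H1.odd_card_oddCore)).trans QuotientGroup.quotientBot).symm
    rcases Cfsg.Agent.S0483.result T 4 (by norm_num) hD with ⟨F, _, _, ho, -, ⟨e⟩⟩ | ⟨⟨e⟩⟩
    · refine Or.inr ⟨F, inferInstance, inferInstance, ?_, ⟨e0.trans e⟩⟩
      have hc := H10.card_PSL_two (F := F)
      rw [← Nat.card_congr (e0.trans e).toEquiv, Nat.card_eq_fintype_card (α := F),
        Nat.gcd_eq_left (Nat.Odd.sub_odd ho odd_one).two_dvd] at hc
      apply mod_sixteen ho <;> rw [← hc] <;> omega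
    · exact Or.inl ⟨e0.trans e⟩
  · have h := Cfsg.Agent.S0201.result T 0 e hO
    rcases (inferInstance : (center G).Normal).eq_bot_or_eq_top with c | c
    · rw [c, card_bot] at h; omega
    · rw [c, card_top] at h; omega

end H65.XS
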